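import Mathlib
import Groth.Agent.FlatMorGeneric.Ring

/-! A nonzero nilpotent on the generic fibre stays nonzero on nearby fibres. -/

universe u

open scoped TensorProduct

namespace Groth.Agent.FlatMorNonRed

theorem flat_away_of_flat_awayMap {A C : Type u} [CommRing A] [CommRing C] [Algebra A C] (c : A)
    (h : (Localization.awayMap (algebraMap A C) c).Flat) :
    Module.Flat A (Localization.Away (algebraMap A C c)) := by
  have h1 : (algebraMap A (Localization.Away c)).Flat :=
    RingHom.flat_algebraMap_iff.mpr inferInstance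
  have h2 := h1.comp h
  have he : (Localization.awayMap (algebraMap A C) c).comp (algebraMap A (Localization.Away c)) =
      algebraMap A (Localization.Away (algebraMap A C c)) := by
    ext x
    rw [RingHom.comp_apply, IsScalarTower.algebraMap_apply A C (Localization.Away (algebraMap A C c))]
    exact IsLocalization.map_eq _ _
  rw [he] at h2
  exact RingHom.flat_algebraMap_iff.mp h2

theorem lTensor_mk_eq_zero_of_flat_localized {A : Type u} [CommRing A] (S : Submonoid A)
    {M N P : Type u} [AddCommGroup M] [AddCommGroup N] [AddCommGroup P] [Module A M] [Module A N]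
    [Module A P] (φ : M →ₗ[A] N) (π : N →ₗ[A] P) (hφ : Function.Injective φ)
    (hex : Function.Exact φ π) (hπ : Function.Surjective π) [Module.Flat A (LocalizedModule S P)]
    (K : Type u) [AddCommGroup K] [Module A K] (x : K ⊗[A] M) (hx : φ.lTensor K x = 0) :
    (LocalizedModule.mkLinearMap S M).lTensor K x = 0 := by
  let φc : LocalizedModule S M →ₗ[A] LocalizedModule S N :=
    IsLocalizedModule.map S (LocalizedModule.mkLinearMap S M) (LocalizedModule.mkLinearMap S N) φ
  let πc : LocalizedModule S N →ₗ[A] LocalizedModule S P :=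
    IsLocalizedModule.map S (LocalizedModule.mkLinearMap S N) (LocalizedModule.mkLinearMap S P) π
  have hφc : Function.Injective φc :=
    IsLocalizedModule.map_injective S (LocalizedModule.mkLinearMap S M)
      (LocalizedModule.mkLinearMap S N) φ hφ
  have hexc : Function.Exact φc πc :=
    IsLocalizedModule.map_exact S (LocalizedModule.mkLinearMap S M)
      (LocalizedModule.mkLinearMap S N) (LocalizedModule.mkLinearMap S P) φ π hex
  have hπc : Function.Surjective πc :=
    IsLocalizedModule.map_surjective S (LocalizedModule.mkLinearMap S N)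
      (LocalizedModule.mkLinearMap S P) π hπ
  have hinj : Function.Injective (φc.lTensor K) :=
    LinearMap.lTensor_injective_of_exact_of_flat πc hπc φc hφc hexc K
  refine hinj ?_
  rw [map_zero, ← LinearMap.lTensor_comp_apply]
  have : φc ∘ₗ LocalizedModule.mkLinearMap S M = LocalizedModule.mkLinearMap S N ∘ₗ φ :=
    IsLocalizedModule.map_comp S (LocalizedModule.mkLinearMap S M) (LocalizedModule.mkLinearMap S N) φ
  rw [this, LinearMap.lTensor_comp_apply, hx, map_zero]

theorem lTensor_mk_one_ne_zero {A D K E : Type u} [CommRing A] [CommRing D] [Algebra A D]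
    [CommRing K] [Algebra A K] [CommRing E] [Nontrivial E] [Algebra A E] (S : Submonoid A)
    (χ : D →ₐ[A] E) (ρ : K →ₐ[A] E) (hS : ∀ s ∈ S, IsUnit (algebraMap A E s)) :
    (LocalizedModule.mkLinearMap S D).lTensor K ((1 : K) ⊗ₜ[A] (1 : D)) ≠ 0 := by
  intro h
  have hunit : ∀ s : S, IsUnit (algebraMap A (Module.End A E) s) := fun s => by
    rw [Module.End.isUnit_iff]
    have : (fun e : E => algebraMap A (Module.End A E) (s : A) e) =
        fun e => algebraMap A E (s : A) * e := by
      funext e; rw [Module.algebraMap_end_apply, Algebra.smul_def]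
    show Function.Bijective (fun e : E => algebraMap A (Module.End A E) (s : A) e)
    rw [this]
    obtain ⟨w, hw⟩ := hS s s.2
    rw [← hw]
    exact (Units.mulLeft w).bijective
  let μ : K ⊗[A] LocalizedModule S D →ₗ[A] E :=
    (LinearMap.mul' A E).comp
      (TensorProduct.map ρ.toLinearMap (LocalizedModule.lift S χ.toLinearMap hunit))
  have h3 := congrArg μ h
  simp only [μ, LinearMap.lTensor_tmul, LinearMap.comp_apply, TensorProduct.map_tmul,
    LinearMap.mul'_apply, AlgHom.toLinearMap_apply, map_one, map_zero, one_mul,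
    LocalizedModule.mkLinearMap_apply, LocalizedModule.lift_mk] at h3
  simp at h3

theorem tmul_ne_zero_aux {A B C D : Type u} [CommRing A] [CommRing B] [Algebra A B] [CommRing C]
    [Algebra A C] [CommRing D] [Algebra A D] (φ : D →ₗ[A] B) (π : B →ₗ[A] C)
    (hφ : Function.Injective φ) (hex : Function.Exact φ π) (hπ : Function.Surjective π) (c : A)
    (hCf : (Localization.awayMap (algebraMap A C) c).Flat) (p : PrimeSpectrum A)
    (hcp : c ∉ p.asIdeal) (q : PrimeSpectrum D)
    (hqp : PrimeSpectrum.comap (algebraMap A D) q = p) :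
    (1 : p.asIdeal.ResidueField) ⊗ₜ[A] φ 1 ≠ 0 := by
  intro h0
  let S := Submonoid.powers c
  have hS : Algebra.algebraMapSubmonoid C S = Submonoid.powers (algebraMap A C c) := by
    simp [S, Algebra.algebraMapSubmonoid, Submonoid.map_powers]
  haveI : IsLocalization (Algebra.algebraMapSubmonoid C S)
      (Localization.Away (algebraMap A C c)) := by
    rw [hS]; infer_instance
  haveI : IsLocalizedModule S
      (IsScalarTower.toAlgHom A C (Localization.Away (algebraMap A C c))).toLinearMap :=
    isLocalizedModule_iff_isLocalization.mpr inferInstance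
  haveI := flat_away_of_flat_awayMap c hCf
  haveI : Module.Flat A (LocalizedModule S C) :=
    Module.Flat.of_linearEquiv (IsLocalizedModule.iso S
      (IsScalarTower.toAlgHom A C (Localization.Away (algebraMap A C c))).toLinearMap)
  have h1 : φ.lTensor p.asIdeal.ResidueField ((1 : p.asIdeal.ResidueField) ⊗ₜ[A] (1 : D)) = 0 := by
    rw [LinearMap.lTensor_tmul]
    exact h0
  refine lTensor_mk_one_ne_zero S (IsScalarTower.toAlgHom A D q.asIdeal.ResidueField)
    (Ideal.ResidueField.mapₐ p.asIdeal q.asIdeal (Algebra.ofId A D)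
      (congrArg PrimeSpectrum.asIdeal hqp).symm) ?_
    (lTensor_mk_eq_zero_of_flat_localized S φ π hφ hex hπ _ _ h1)
  rintro _ ⟨k, rfl⟩
  show IsUnit (algebraMap A q.asIdeal.ResidueField (c ^ k))
  rw [map_pow]
  refine IsUnit.pow k ?_
  rw [IsScalarTower.algebraMap_apply A D q.asIdeal.ResidueField, isUnit_iff_ne_zero]
  intro h
  exact hcp (hqp ▸ (Ideal.algebraMap_residueField_eq_zero.mp h : algebraMap A D c ∈ q.asIdeal))

theorem tmul_ne_zero_of_flat_cokernel {A B : Type u} [CommRing A] [CommRing B] [Algebra A B]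
    (b : B) (J : Ideal B) (hJ : ∀ y, y ∈ J ↔ y * b = 0) (c : A)
    (hCf : (Localization.awayMap (algebraMap A (B ⧸ Ideal.span {b})) c).Flat)
    (p : PrimeSpectrum A) (hcp : c ∉ p.asIdeal) (q : PrimeSpectrum (B ⧸ J))
    (hqp : PrimeSpectrum.comap (algebraMap A (B ⧸ J)) q = p) :
    (1 : p.asIdeal.ResidueField) ⊗ₜ[A] b ≠ 0 := by
  let μ : B →ₗ[B] B := LinearMap.toSpanSingleton B B b
  have hμ : J = LinearMap.ker μ := by
    ext y
    exact hJ y
  let φ₀ : (B ⧸ J) →ₗ[B] B := Submodule.liftQ J μ hμ.le
  let π : B →ₗ[A] B ⧸ Ideal.span {b} := (Ideal.Quotient.mkₐ A _).toLinearMap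
  have hφinj : Function.Injective (φ₀.restrictScalars A) :=
    (LinearMap.ker_eq_bot.mp (Submodule.ker_liftQ_eq_bot J μ hμ.le hμ.ge) : Function.Injective φ₀)
  have hφmk : ∀ y : B, φ₀.restrictScalars A (Ideal.Quotient.mk J y) = y * b := fun y => rfl
  have hex : Function.Exact (φ₀.restrictScalars A) π := by
    intro x
    constructor
    · intro hx
      obtain ⟨y, rfl⟩ := Ideal.mem_span_singleton'.mp (Ideal.Quotient.eq_zero_iff_mem.mp hx)
      exact ⟨Ideal.Quotient.mk J y, hφmk y⟩
    · rintro ⟨d, rfl⟩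
      obtain ⟨y, rfl⟩ := Ideal.Quotient.mk_surjective d
      exact Ideal.Quotient.eq_zero_iff_mem.mpr (Ideal.mem_span_singleton'.mpr ⟨y, (hφmk y).symm⟩)
  have h1 : φ₀.restrictScalars A (Ideal.Quotient.mk J 1) = b := (hφmk 1).trans (one_mul b)
  have h2 := tmul_ne_zero_aux (φ₀.restrictScalars A) π hφinj hex Ideal.Quotient.mk_surjective c hCf
    p hcp q hqp
  intro h3
  apply h2
  rw [show (1 : B ⧸ J) = Ideal.Quotient.mk J 1 from rfl, h1]
  exact h3

theorem exists_forall_nilpotent_ne_zero {A B : Type u} [CommRing A] [IsDomain A] [CommRing B]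
    [Algebra A B] [Algebra.FiniteType A B] (b : B)
    (hb0 : ∀ a : A, a ≠ 0 → algebraMap A B a * b ≠ 0) :
    ∃ a : A, a ≠ 0 ∧ ∀ p : PrimeSpectrum A, a ∉ p.asIdeal →
      (1 : p.asIdeal.ResidueField) ⊗ₜ[A] b ≠ 0 := by
  let J : Ideal B := LinearMap.ker (LinearMap.toSpanSingleton B B b)
  let D := B ⧸ J
  let C := B ⧸ Ideal.span {b}
  obtain ⟨c₁, -, hc₁, h₁⟩ := FlatMorGeneric.exists_dvd_flat_fp (R := A) (S := C) 1 one_ne_zero
  obtain ⟨c, hc₁c, hc, h₂⟩ := FlatMorGeneric.exists_dvd_flat_fp (R := A) (S := D) c₁ hc₁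
  obtain ⟨hCf, -⟩ := h₁ c hc₁c hc
  obtain ⟨hDf, hDp⟩ := h₂ c dvd_rfl hc
  let Dc := Localization.Away (algebraMap A D c)
  let ψ := Localization.awayMap (algebraMap A D) c
  have hopen : IsOpen (Set.range (PrimeSpectrum.comap ψ)) := by
    letI := ψ.toAlgebra
    haveI : Algebra.FinitePresentation (Localization.Away c) Dc := hDp
    haveI : Module.Flat (Localization.Away c) Dc := hDf
    exact (PrimeSpectrum.isOpenMap_comap_of_hasGoingDown_of_finitePresentation
      (R := Localization.Away c) (S := Dc)).isOpen_range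
  let O : Set (PrimeSpectrum A) :=
    PrimeSpectrum.comap (algebraMap A (Localization.Away c)) '' Set.range (PrimeSpectrum.comap ψ)
  have hO : IsOpen O := (PrimeSpectrum.localization_away_isOpenEmbedding (Localization.Away c) c).isOpenMap _ hopen
  have hOeq : ∀ p ∈ O, c ∉ p.asIdeal ∧ ∃ q : PrimeSpectrum D,
      PrimeSpectrum.comap (algebraMap A D) q = p := by
    rintro _ ⟨_, ⟨q, rfl⟩, rfl⟩
    refine ⟨fun h => ?_, PrimeSpectrum.comap (algebraMap D Dc) q, ?_⟩
    · exact ((PrimeSpectrum.comap ψ q).isPrime.ne_top) (Ideal.eq_top_of_isUnit_mem _ h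
        (IsLocalization.map_units (Localization.Away c) (⟨c, Submonoid.mem_powers c⟩ : Submonoid.powers c)))
    · rw [← PrimeSpectrum.comap_comp_apply, ← PrimeSpectrum.comap_comp_apply]
      congr 1
      ext x
      rw [RingHom.comp_apply, RingHom.comp_apply]
      exact (IsLocalization.map_eq _ _).symm
  have hbot : (⟨⊥, Ideal.isPrime_bot⟩ : PrimeSpectrum A) ∈ O := by
    have hdisj : Disjoint ((⊥ : Ideal D) : Set D)
        (Algebra.algebraMapSubmonoid D (nonZeroDivisors A) : Set D) := by
      rw [Set.disjoint_left]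
      rintro _ h ⟨a, ha, rfl⟩
      have ha0 : a ≠ 0 := nonZeroDivisors.ne_zero ha
      have h' : algebraMap A B a ∈ J := by
        rw [← Ideal.Quotient.eq_zero_iff_mem]; exact Ideal.mem_bot.mp h
      exact hb0 a ha0 (by simpa [J] using h')
    obtain ⟨q, hq, -, hqd⟩ := Ideal.exists_le_prime_disjoint _ _ hdisj
    have hqbot : q.comap (algebraMap A D) = ⊥ := by
      rw [eq_bot_iff]
      intro a ha
      by_contra ha0
      exact Set.disjoint_left.mp hqd ha ⟨a, mem_nonZeroDivisors_of_ne_zero ha0, rfl⟩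
    have hcq : algebraMap A D c ∉ q := fun h => hc (by
      have : c ∈ q.comap (algebraMap A D) := h
      rwa [hqbot, Ideal.mem_bot] at this)
    have hr : (⟨q, hq⟩ : PrimeSpectrum D) ∈ Set.range (PrimeSpectrum.comap (algebraMap D Dc)) := by
      rw [PrimeSpectrum.localization_away_comap_range Dc (algebraMap A D c)]
      exact hcq
    obtain ⟨q', hq'⟩ := hr
    refine ⟨_, ⟨q', rfl⟩, ?_⟩
    have h1 : PrimeSpectrum.comap (algebraMap A D) (PrimeSpectrum.comap (algebraMap D Dc) q') =
        ⟨⊥, Ideal.isPrime_bot⟩ := by rw [hq']; exact PrimeSpectrum.ext hqbot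
    rw [← h1, ← PrimeSpectrum.comap_comp_apply, ← PrimeSpectrum.comap_comp_apply]
    congr 1
    ext x
    rw [RingHom.comp_apply, RingHom.comp_apply]
    exact IsLocalization.map_eq _ _
  obtain ⟨_, ⟨a, rfl⟩, ha, haO⟩ :=
    PrimeSpectrum.isTopologicalBasis_basic_opens.exists_subset_of_mem_open hbot hO
  refine ⟨a, fun h => ha (by simp [h]), fun p hp => ?_⟩
  obtain ⟨hcp, q, hqp⟩ := hOeq p (haO hp)
  exact tmul_ne_zero_of_flat_cokernel b J (fun y => by simp [J]) c hCf p hcp q hqp

end Groth.Agent.FlatMorNonRed
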