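import Groth.Agent.FlatMorNonRed.Ring
import Groth.Agent.FlatMorDim.Generic

/-! A non-reduced generic fibre forces non-reduced nearby fibres. -/

universe u

open AlgebraicGeometry CategoryTheory Limits TopologicalSpace
open scoped TensorProduct

namespace Groth.Agent.FlatMorNonRed

set_option backward.isDefEq.respectTransparency false

variable {X Y : Scheme.{u}} (f : X ⟶ Y)

/-- The fibre of an affine piece is the spectrum of the tensor product with the residue field. -/
theorem nonempty_fiber_iso_Spec {V : Y.Opens} (hV : IsAffineOpen V) {U : X.Opens}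
    (hU : IsAffineOpen U) (e : U ≤ f ⁻¹ᵁ V) (p : PrimeSpectrum Γ(Y, V)) :
    letI := (f.appLE V U e).hom.toAlgebra
    Nonempty ((U.ι ≫ f).fiber (hV.fromSpec p) ≅
      Spec (CommRingCat.of (p.asIdeal.ResidueField ⊗[Γ(Y, V)] Γ(X, U)))) := by
  letI := (f.appLE V U e).hom.toAlgebra
  have hsq : IsPullback hU.isoSpec.inv
      (Spec.map (CommRingCat.ofHom (algebraMap Γ(Y, V) Γ(X, U)))) (U.ι ≫ f) hV.fromSpec := by
    refine IsPullback.of_horiz_isIso_mono ⟨?_⟩
    rw [RingHom.algebraMap_toAlgebra, CommRingCat.ofHom_hom, ← Category.assoc,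
      IsAffineOpen.isoSpec_inv_ι]
    exact (hV.SpecMap_appLE_fromSpec f hU e).symm
  obtain ⟨e₁⟩ := FlatMorDim.exists_fiberIso_of_pullback hsq p
  exact ⟨e₁.symm ≪≫ Arrow.leftFunc.mapIso (Spec.fiberToSpecResidueFieldIso Γ(Y, V) Γ(X, U) p)⟩

theorem not_isReduced_fiber_of_piece (U : X.Opens) (y : Y)
    (h : ¬ IsReduced ((U.ι ≫ f).fiber y)) : ¬ IsReduced (f.fiber y) := by
  intro hred
  let m : (U.ι ≫ f).fiber y ⟶ f.fiber y :=
    pullback.map (U.ι ≫ f) (Y.fromSpecResidueField y) f (Y.fromSpecResidueField y) U.ι (𝟙 _) (𝟙 _)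
      (by simp) (by simp)
  haveI : IsOpenImmersion m := MorphismProperty.pullbackMap (P := @IsOpenImmersion.{u})
    (inferInstance : IsOpenImmersion U.ι) (inferInstance : IsOpenImmersion (𝟙 _)) (by simp) (by simp)
  exact h (isReduced_of_isOpenImmersion m)

theorem exists_piece_not_isReduced {ι : Type u} (U : ι → X.Opens) (y : Y)
    (hcov : ∀ x, f x = y → ∃ i, x ∈ U i) (h : ¬ IsReduced (f.fiber y)) :
    ∃ i, ¬ IsReduced (((U i).ι ≫ f).fiber y) := by
  by_contra hcon
  push Not at hcon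
  refine h (@isReduced_of_isReduced_stalk (f.fiber y) fun z => ?_)
  obtain ⟨i, hi⟩ := hcov (f.fiberι y z) ((f.range_fiberι y).le ⟨z, rfl⟩)
  let m : ((U i).ι ≫ f).fiber y ⟶ f.fiber y :=
    pullback.map ((U i).ι ≫ f) (Y.fromSpecResidueField y) f (Y.fromSpecResidueField y) (U i).ι
      (𝟙 _) (𝟙 _) (by simp) (by simp)
  haveI : IsOpenImmersion m := MorphismProperty.pullbackMap (P := @IsOpenImmersion.{u})
    (inferInstance : IsOpenImmersion (U i).ι) (inferInstance : IsOpenImmersion (𝟙 _)) (by simp) (by simp)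
  obtain ⟨w, hw, -⟩ := Scheme.Pullback.exists_preimage_pullback (f := (U i).ι ≫ f)
    (g := Y.fromSpecResidueField y) ⟨_, hi⟩ (f.fiberToSpecResidueField y z)
    (by
      show f (f.fiberι y z) = _
      rw [show f (f.fiberι y z) = y from (f.range_fiberι y).le ⟨z, rfl⟩]
      exact (Y.fromSpecResidueField_apply y _).symm)
  have hm : m w = z := by
    apply (f.fiberι y).isEmbedding.injective
    show (m ≫ pullback.fst f (Y.fromSpecResidueField y)) w = f.fiberι y z
    rw [show m ≫ pullback.fst f (Y.fromSpecResidueField y) =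
      pullback.fst ((U i).ι ≫ f) (Y.fromSpecResidueField y) ≫ (U i).ι from pullback.lift_fst _ _ _]
    show (U i).ι (pullback.fst ((U i).ι ≫ f) (Y.fromSpecResidueField y) w) = _
    rw [hw]
    rfl
  haveI := hcon i
  subst hm
  exact isReduced_of_injective (asIso (m.stalkMap w)).commRingCatIsoToRingEquiv
    (RingEquiv.injective _)

theorem exists_nilpotent_of_not_isReduced {A B : Type u} [CommRing A] [IsDomain A] [CommRing B]
    [Algebra A B] (p : PrimeSpectrum A) (hp : p.asIdeal = ⊥)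
    (h : ¬ _root_.IsReduced (p.asIdeal.ResidueField ⊗[A] B)) :
    ∃ b : B, IsNilpotent b ∧ ∀ a : A, a ≠ 0 → algebraMap A B a * b ≠ 0 := by
  obtain ⟨x, hx, hx0⟩ : ∃ x : p.asIdeal.ResidueField ⊗[A] B, IsNilpotent x ∧ x ≠ 0 := by
    by_contra hcon
    push Not at hcon
    exact h ⟨fun x hx => hcon x hx⟩
  haveI : IsLocalization (nonZeroDivisors A) p.asIdeal.ResidueField := by
    obtain ⟨p, hp'⟩ := p
    subst hp
    exact inferInstanceAs (IsFractionRing A (⊥ : Ideal A).ResidueField)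
  haveI : IsLocalizedModule (nonZeroDivisors A) (TensorProduct.mk A p.asIdeal.ResidueField B 1) :=
    (isLocalizedModule_iff_isBaseChange (nonZeroDivisors A) p.asIdeal.ResidueField _).mpr
      (TensorProduct.isBaseChange A B p.asIdeal.ResidueField)
  obtain ⟨⟨b, s⟩, hbs⟩ := IsLocalizedModule.surj (nonZeroDivisors A)
    (TensorProduct.mk A p.asIdeal.ResidueField B 1) x
  simp only [TensorProduct.mk_apply] at hbs
  obtain ⟨n, hn⟩ := hx
  have hbn : (1 : p.asIdeal.ResidueField) ⊗ₜ[A] (b ^ n) = 0 := by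
    have h1 : ((1 : p.asIdeal.ResidueField) ⊗ₜ[A] b) ^ n = 0 := by
      rw [← hbs, Submonoid.smul_def, smul_pow, hn, smul_zero]
    rwa [Algebra.TensorProduct.tmul_pow, one_pow] at h1
  have hx1 : (1 : p.asIdeal.ResidueField) ⊗ₜ[A] b ≠ 0 := by
    rw [← hbs, Submonoid.smul_def]
    intro h0
    refine hx0 ?_
    have hu : IsUnit (algebraMap A p.asIdeal.ResidueField (s : A)) :=
      IsLocalization.map_units p.asIdeal.ResidueField s
    have h2 : algebraMap A p.asIdeal.ResidueField (s : A) • x = 0 := by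
      rw [algebraMap_smul]; exact h0
    exact (hu.smul_eq_zero).1 h2
  obtain ⟨t, ht⟩ := (IsLocalizedModule.eq_zero_iff (nonZeroDivisors A)
    (TensorProduct.mk A p.asIdeal.ResidueField B 1)).1 hbn
  rw [Submonoid.smul_def] at ht
  refine ⟨(t : A) • b, ⟨n + 1, ?_⟩, fun a ha h0 => hx1 ?_⟩
  · rw [smul_pow, pow_succ (t : A) n, pow_succ b n, mul_smul, ← smul_mul_assoc, ht, zero_mul,
      smul_zero]
  · refine (IsLocalizedModule.eq_zero_iff (nonZeroDivisors A)
      (TensorProduct.mk A p.asIdeal.ResidueField B 1)).2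
      ⟨⟨a * t, mul_mem (mem_nonZeroDivisors_of_ne_zero ha) t.2⟩, ?_⟩
    rw [Submonoid.smul_def]
    show (a * (t : A)) • b = 0
    rw [mul_smul, Algebra.smul_def]
    exact h0

/-- A non-reduced generic fibre forces non-reduced fibres over a nonempty open. -/
theorem exists_opens_forall_not_isReduced [IrreducibleSpace ↑Y] [LocallyOfFiniteType f]
    (h : ¬ IsReduced (f.fiber (genericPoint ↑Y))) :
    ∃ V : Y.Opens, (V : Set ↑Y).Nonempty ∧ ∀ y ∈ V, ¬ IsReduced (f.fiber y) := by
  let i := Y.nilradical.subschemeι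
  have hred : IsReduced Y.nilradical.subscheme := by
    rw [← Scheme.IdealSheafData.vanishingIdeal_top]
    exact Props12.isReduced_subscheme_vanishingIdeal _
  have hs : Surjective i := ⟨Set.range_eq_univ.1 (by
    rw [Scheme.IdealSheafData.range_subschemeι, Scheme.support_nilradical]; rfl)⟩
  have hio := FlatMorThick.universallyOpen_of_thickening i
  let g := pullback.snd f i
  have : LocallyOfFiniteType g := MorphismProperty.pullback_snd _ _ inferInstance
  obtain ⟨η, hη⟩ := i.surjective (genericPoint ↑Y)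
  have hgen : ∀ z, η ⤳ z := fun z => by
    rw [← i.isClosedEmbedding.isEmbedding.isInducing.specializes_iff, hη]
    exact genericPoint_specializes _
  have hiff : ∀ w, IsReduced (g.fiber w) ↔ IsReduced (f.fiber (i w)) := fun w => by
    obtain ⟨e⟩ := FlatMorDim.exists_fiberIso_of_pullback (IsPullback.of_hasPullback f i) w
    exact ⟨fun _ => isReduced_of_isOpenImmersion e.inv, fun _ => isReduced_of_isOpenImmersion e.hom⟩
  haveI : IrreducibleSpace ↑Y.nilradical.subscheme := by
    haveI : Nonempty Y.nilradical.subscheme := ⟨η⟩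
    have : (Set.univ : Set ↑Y.nilradical.subscheme) = closure {η} :=
      (Set.eq_univ_of_forall fun z => (hgen z).mem_closure).symm
    exact { isPreirreducible_univ := (this ▸ isIrreducible_singleton.closure : IsIrreducible (Set.univ : Set ↑Y.nilradical.subscheme)).2
            toNonempty := ⟨η⟩ }
  haveI : IsIntegral Y.nilradical.subscheme := isIntegral_of_irreducibleSpace_of_isReduced _
  obtain ⟨V, hV, hηV, -⟩ := exists_isAffineOpen_mem_and_subset (x := η) (U := ⊤) trivial
  haveI : Nonempty V := ⟨⟨η, hηV⟩⟩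
  have hgη : ¬ IsReduced (g.fiber η) := by
    rw [hiff, hη]; exact h
  obtain ⟨⟨U, hU, e⟩, hU'⟩ := exists_piece_not_isReduced g
    (ι := {U : (pullback f i).Opens // IsAffineOpen U ∧ U ≤ g ⁻¹ᵁ V}) (fun U => U.1) η
    (fun x hx => by
      obtain ⟨U, hU, hxU, hUV⟩ := exists_isAffineOpen_mem_and_subset (x := x) (U := g ⁻¹ᵁ V)
        (by show g x ∈ V; rw [hx]; exact hηV)
      exact ⟨⟨U, hU, hUV⟩, hxU⟩) hgη
  letI := (g.appLE V U e).hom.toAlgebra
  haveI : Algebra.FiniteType Γ(Y.nilradical.subscheme, V) Γ(pullback f i, U) :=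
    LocallyOfFiniteType.finiteType_appLE g hV hU e
  have hp0 : hV.primeIdealOf ⟨η, hηV⟩ =
      (⟨⊥, Ideal.isPrime_bot⟩ : PrimeSpectrum Γ(Y.nilradical.subscheme, V)) := by
    refine le_antisymm ?_ bot_le
    rw [PrimeSpectrum.le_iff_specializes, ← hV.fromSpec.isOpenEmbedding.isEmbedding.isInducing.specializes_iff,
      hV.fromSpec_primeIdealOf]
    exact hgen _
  obtain ⟨eη⟩ := nonempty_fiber_iso_Spec g hV hU e (hV.primeIdealOf ⟨η, hηV⟩)
  have hη' : hV.fromSpec (hV.primeIdealOf ⟨η, hηV⟩) = η := hV.fromSpec_primeIdealOf _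
  obtain ⟨b, hb, hb0⟩ := exists_nilpotent_of_not_isReduced (hV.primeIdealOf ⟨η, hηV⟩)
    (congrArg PrimeSpectrum.asIdeal hp0) (fun hr => hU' (by
      haveI : IsReduced (Spec (CommRingCat.of ((hV.primeIdealOf ⟨η, hηV⟩).asIdeal.ResidueField ⊗[Γ(Y.nilradical.subscheme, V)] Γ(pullback f i, U)))) :=
        (affine_isReduced_iff _).mpr hr
      haveI : IsReduced (((U.ι ≫ g).fiber (hV.fromSpec (hV.primeIdealOf ⟨η, hηV⟩)))) :=
        isReduced_of_isOpenImmersion eη.hom
      rwa [hη'] at this))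
  obtain ⟨a, ha, ha'⟩ := exists_forall_nilpotent_ne_zero b hb0
  refine ⟨⟨i '' (hV.fromSpec '' (PrimeSpectrum.basicOpen a : Set (PrimeSpectrum Γ(Y.nilradical.subscheme, V)))),
    i.isOpenMap _ (hV.fromSpec.isOpenEmbedding.isOpenMap _ (PrimeSpectrum.basicOpen a).isOpen)⟩,
    ⟨_, _, ⟨⟨⊥, Ideal.isPrime_bot⟩, (fun h' => ha (Ideal.mem_bot.mp h') : a ∉ (⊥ : Ideal Γ(Y.nilradical.subscheme, V))), rfl⟩, rfl⟩, ?_⟩
  rintro _ ⟨_, ⟨p, hp, rfl⟩, rfl⟩
  rw [← hiff]
  refine not_isReduced_fiber_of_piece g U _ ?_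
  intro hr
  obtain ⟨ep⟩ := nonempty_fiber_iso_Spec g hV hU e p
  haveI := hr
  haveI := isReduced_of_isOpenImmersion ep.inv
  haveI : _root_.IsReduced (p.asIdeal.ResidueField ⊗[Γ(Y.nilradical.subscheme, V)] Γ(pullback f i, U)) :=
    (affine_isReduced_iff _).mp this
  refine ha' p hp ?_
  exact (hb.map (Algebra.TensorProduct.includeRight (R := Γ(Y.nilradical.subscheme, V))
    (A := p.asIdeal.ResidueField))).eq_zero

end Groth.Agent.FlatMorNonRed
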